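import Groth.Agent.H9Ram.TameBC

/-! Adjoining roots of finitely many units and of a uniformizer is tamely ramified. -/

set_option autoImplicit false
set_option linter.style.haveILetI false
universe u

open IsLocalRing
open scoped TensorProduct

namespace Groth.Agent.H23Kummer

open Groth.Agent.H9Ram

section Unram

variable {B L F : Type u} [CommRing B] [IsDomain B] [IsDiscreteValuationRing B] [Field L] [Field F]
  [Algebra B L] [IsFractionRing B L] (iL : L →+* F) {W : ValuationSubring F}
  (hW : EtRam.Dominates B (iL.comp (algebraMap B L)) W)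

/-- A formally unramified algebra containing prescribed roots of units. -/
theorem exists_roots_algebra {ι : Type*} (s : Finset ι) (n : ι → ℕ) (hn : ∀ j ∈ s, IsUnit (n j : B))
    (hn0 : ∀ j ∈ s, n j ≠ 0) (b : ι → Bˣ) (z : ι → F) (hz : ∀ j ∈ s, z j ^ n j = iL (algebraMap B L (b j))) :
    letI : Algebra B W := (RingHom.codRestrict (iL.comp (algebraMap B L)) W hW.1).toAlgebra
    ∃ (T : Type u) (_ : CommRing T) (_ : Algebra B T) (_ : Algebra.FormallyUnramified B T)
      (_ : Algebra.EssFiniteType B T) (ψ : T →ₐ[B] W), ∀ j ∈ s, ∃ t : T, ((ψ t : W) : F) = z j := by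
  classical
  let : Algebra B W := (RingHom.codRestrict (iL.comp (algebraMap B L)) W hW.1).toAlgebra
  induction s using Finset.induction with
  | empty => exact ⟨B, inferInstance, inferInstance, inferInstance, inferInstance, Algebra.ofId B W, by simp⟩
  | @insert a s ha ih =>
    obtain ⟨T, _, _, _, _, ψ, hψ⟩ := ih (fun j hj => hn j (Finset.mem_insert_of_mem hj))
      (fun j hj => hn0 j (Finset.mem_insert_of_mem hj)) (fun j hj => hz j (Finset.mem_insert_of_mem hj))
    obtain ⟨T₁, _, _, _, _, ψ₁, t₁, ht₁⟩ := UnramGen.exists_root_algebra iL hW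
      (hn a (Finset.mem_insert_self a s)) (hn0 a (Finset.mem_insert_self a s)) (b a) (hz a (Finset.mem_insert_self a s))
    have : Algebra.FormallyUnramified B (T₁ ⊗[B] T) := Algebra.FormallyUnramified.comp B T₁ (T₁ ⊗[B] T)
    have : Algebra.EssFiniteType B (T₁ ⊗[B] T) := Algebra.EssFiniteType.comp B T₁ (T₁ ⊗[B] T)
    refine ⟨T₁ ⊗[B] T, inferInstance, inferInstance, inferInstance, inferInstance,
      Algebra.TensorProduct.lift ψ₁ ψ fun _ _ => Commute.all _ _, fun j hj => ?_⟩
    rcases Finset.mem_insert.mp hj with rfl | hj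
    · exact ⟨t₁ ⊗ₜ 1, by simpa using ht₁⟩
    · obtain ⟨t, ht⟩ := hψ j hj
      exact ⟨1 ⊗ₜ t, by simpa using ht⟩

theorem unrAt_rootsFamily {ι : Type*} [Fintype ι] (n : ι → ℕ) (hn : ∀ j, IsUnit (n j : B))
    (hn0 : ∀ j, n j ≠ 0) (b : ι → Bˣ) (z : ι → F) (hz : ∀ j, z j ^ n j = iL (algebraMap B L (b j)))
    (hgen : ∀ x : F, x ∈ Subfield.closure (Set.range z ∪ Set.range iL)) :
    TowerExt.UnrAt _ W hW := by
  let : Algebra B W := (RingHom.codRestrict (iL.comp (algebraMap B L)) W hW.1).toAlgebra
  obtain ⟨T, _, _, _, _, ψ, hψ⟩ := exists_roots_algebra iL hW Finset.univ n (fun j _ => hn j) (fun j _ => hn0 j)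
    b z (fun j _ => hz j)
  unfold TowerExt.UnrAt
  intro _
  refine UnramGen.unrAt_of_gen iL hW T ψ.toRingHom (fun c => ?_)
    fun x => Subfield.closure_mono (Set.union_subset_union_left _ ?_) (hgen x)
  · show ((ψ (algebraMap B T c) : W) : F) = _
    rw [AlgHom.commutes]
    rfl
  · rintro _ ⟨j, rfl⟩
    exact hψ j (Finset.mem_univ j)

end Unram

variable {B L L3 : Type u} [CommRing B] [IsDomain B] [IsDiscreteValuationRing B] [Field L] [Algebra B L]
  [IsFractionRing B L] [Field L3] [Algebra L L3] [FiniteDimensional L L3] [Algebra.IsSeparable L L3]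

theorem isTamelyRamified_family {ι : Type*} [Fintype ι] (n : ι → ℕ) (hn : ∀ j, IsUnit (n j : B))
    (hn0 : ∀ j, n j ≠ 0) (b : ι → Bˣ) (z : ι → L3) (hz : ∀ j, z j ^ n j = algebraMap L L3 (algebraMap B L (b j)))
    {e : ℕ} (he0 : e ≠ 0) (heB : IsUnit (e : B)) {ϖ : B} (hϖ : Irreducible ϖ) (w : L3)
    (hw : w ^ e = algebraMap L L3 (algebraMap B L ϖ))
    (hgen : IntermediateField.adjoin L (Set.range z ∪ {w}) = ⊤) :
    EtRam.IsTamelyRamified B ((algebraMap L L3).comp (algebraMap B L)) := by
  intro W hW
  let L2 := IntermediateField.adjoin L (Set.range z)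
  show TowerExt.TameAt _ W hW
  refine (TowerExt.tower_iff (L := L2) W hW).1.mpr ⟨?_, ?_⟩
  all_goals
    let B2 := W.comap (algebraMap L2 L3)
    have hB2 : EtRam.Dominates B ((algebraMap L L2).comp (algebraMap B L)) B2 := TowerExt.restrict W hW
    have h2 : TowerExt.UnrAt _ B2 hB2 := by
      refine unrAt_rootsFamily (algebraMap L L2) hB2 n hn hn0 b
        (fun j => ⟨z j, IntermediateField.subset_adjoin _ _ ⟨j, rfl⟩⟩) (fun j => Subtype.ext (hz j)) fun x => ?_
      obtain ⟨x, hx⟩ := x
      induction hx using IntermediateField.adjoin_induction with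
      | mem x hx =>
        obtain ⟨j, rfl⟩ := hx
        exact Subfield.subset_closure (Or.inl ⟨j, rfl⟩)
      | algebraMap c => exact Subfield.subset_closure (Or.inr ⟨c, rfl⟩)
      | add x y hx' hy' hx hy => exact add_mem hx hy
      | inv x hx' hx => exact inv_mem hx
      | mul x y hx' hy' hx hy => exact mul_mem hx hy
    have : IsDiscreteValuationRing B2 := ValSub.isDVR hB2
    have hiB : Function.Injective ((algebraMap L L2).comp (algebraMap B L)) :=
      (algebraMap L L2).injective.comp (IsFractionRing.injective B L)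
  · unfold TowerExt.TameAt
    intro _
    exact TameBC.tameAt_of_unrAt (h := hB2) hiB h2
  · let : Algebra B B2 := (RingHom.codRestrict ((algebraMap L L2).comp (algebraMap B L)) B2 hB2.1).toAlgebra
    have : IsLocalHom (algebraMap B B2) := Dom.isLocalHom hB2
    have hϖ2 : Irreducible (algebraMap B B2 ϖ) := by
      rw [IsDiscreteValuationRing.irreducible_iff_uniformizer]
      have h1 : (maximalIdeal B).map (algebraMap B B2) = maximalIdeal B2 := (@h2 ‹_›).1
      rw [← h1, hϖ.maximalIdeal_eq, Ideal.map_span, Set.image_singleton]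
    have hκ2 : ((e : ℕ) : ResidueField B2) ≠ 0 := by
      have h1 : IsUnit (e : B2) := by simpa using heB.map (algebraMap B B2)
      simpa using (residue_ne_zero_iff_isUnit (e : B2)).mpr h1
    have hadj : IntermediateField.adjoin L2 ({w} : Set L3) = ⊤ := by
      refine IntermediateField.restrictScalars_injective L ?_
      rw [IntermediateField.restrictScalars_top, IntermediateField.adjoin_adjoin_left, ← hgen]
    unfold TowerExt.TameAt
    intro hl
    obtain ⟨he, hs⟩ := @TameBC.root_uniformizer B2 L2 L3 _ _ _ _ _ _ _ _ _ _ _ hϖ2 e he0 w hw hadj W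
      (Dom.self _ W) hl
    exact ⟨hs, fun p _ hc => he.symm ▸ TameBC.charP_not_dvd hκ2 p hc⟩

end Groth.Agent.H23Kummer

namespace Groth.Agent.H23Kummer

/-- Kummer extensions along a uniformizer and units, over an abstract field. -/
theorem isTamelyRamified_kummer {R M : Type u} [CommRing R] [IsDomain R] [IsDiscreteValuationRing R] [Field M]
    (g : R →+* M) (hg : Function.Injective g) {ι : Type*} [Fintype ι] (i : ι) (n : ι → ℕ)
    (hn0 : ∀ j, n j ≠ 0) (hn : ∀ j, IsUnit (n j : R)) (c : ι → R) (hci : Irreducible (c i))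
    (hc : ∀ j, j ≠ i → IsUnit (c j)) (t : ι → M) (ht : ∀ j, t j ^ n j = g (c j))
    (hgen : ∀ x : M, x ∈ Subfield.closure (Set.range g ∪ Set.range t)) :
    EtRam.IsTamelyRamified R g := by
  classical
  let K := FractionRing R
  letI : Algebra K M := (IsFractionRing.lift (A := R) (K := K) hg).toAlgebra
  have hcomp : (algebraMap K M).comp (algebraMap R K) = g :=
    RingHom.ext fun z => IsFractionRing.lift_algebraMap hg z
  have hgz : ∀ z, g z = algebraMap K M (algebraMap R K z) := fun z => (RingHom.congr_fun hcomp z).symm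
  have htop : IntermediateField.adjoin K (Set.range t) = ⊤ := by
    rw [eq_top_iff]
    intro x _
    refine (Subfield.closure_le (t := (IntermediateField.adjoin K (Set.range t)).toSubfield)).mpr ?_ (hgen x)
    rintro _ (⟨z, rfl⟩ | ⟨j, rfl⟩)
    · rw [hgz]
      exact IntermediateField.algebraMap_mem _ _
    · exact IntermediateField.subset_adjoin _ _ ⟨j, rfl⟩
  have hnK : ∀ j, (n j : K) ≠ 0 := fun j => by
    have := ((hn j).map (algebraMap R K)).ne_zero
    rwa [map_natCast] at this
  have hc0 : ∀ j, algebraMap R K (c j) ≠ 0 := fun j => by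
    rw [map_ne_zero_iff _ (IsFractionRing.injective R K)]
    by_cases hji : j = i
    · rw [hji]; exact hci.ne_zero
    · exact (hc j hji).ne_zero
  have hsep : ∀ j, IsSeparable K (t j) := fun j => by
    refine Polynomial.Separable.of_dvd (Polynomial.separable_X_pow_sub_C (algebraMap R K (c j))
      (hnK j) (hc0 j)) (minpoly.dvd K _ ?_)
    rw [map_sub, map_pow, Polynomial.aeval_X, Polynomial.aeval_C, ht, hgz, sub_self]
  haveI : FiniteDimensional K M := by
    have := IntermediateField.finiteDimensional_adjoin (K := K) (S := Set.range t)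
      (fun x hx => by obtain ⟨j, rfl⟩ := hx; exact (hsep j).isIntegral)
    rw [htop] at this
    exact Module.Finite.equiv IntermediateField.topEquiv.toLinearEquiv
  haveI : Algebra.IsSeparable K M := by
    have : Algebra.IsSeparable K (IntermediateField.adjoin K (Set.range t)) :=
      (IntermediateField.isSeparable_adjoin_iff_isSeparable K M).mpr (fun x hx => by
        obtain ⟨j, rfl⟩ := hx; exact hsep j)
    rw [htop] at this
    exact Algebra.IsSeparable.of_algHom K _ IntermediateField.topEquiv.symm.toAlgHom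
  have hgen' : IntermediateField.adjoin K (Set.range (fun j : {j : ι // j ≠ i} => t j.1) ∪ {t i}) = ⊤ := by
    rw [← htop]
    congr 1
    ext x
    constructor
    · rintro (⟨j, rfl⟩ | rfl)
      · exact ⟨j.1, rfl⟩
      · exact ⟨i, rfl⟩
    · rintro ⟨j, rfl⟩
      by_cases hji : j = i
      · exact Or.inr (by rw [hji]; rfl)
      · exact Or.inl ⟨⟨j, hji⟩, rfl⟩
  rw [← hcomp]
  exact isTamelyRamified_family (B := R) (L := K) (L3 := M) (fun j : {j : ι // j ≠ i} => n j.1)
    (fun j => hn j.1) (fun j => hn0 j.1) (fun j => (hc j.1 j.2).unit) (fun j => t j.1)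
    (fun j => (ht j.1).trans (hgz _)) (hn0 i) (hn i) hci (t i) ((ht i).trans (hgz _)) hgen'

end Groth.Agent.H23Kummer
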